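import Mathlib.CategoryTheory.Triangulated.Triangulated
import Mathlib.CategoryTheory.Triangulated.Subcategory
import Mathlib.CategoryTheory.Triangulated.Orthogonal

set_option autoImplicit false
set_option backward.isDefEq.respectTransparency false
set_option backward.defeqAttrib.useBackward true

namespace Groth.Agent.Triang

open CategoryTheory Limits Category Pretriangulated ZeroObject

universe v u

variable {D : Type u} [Category.{v} D] [Preadditive D] [HasZeroObject D] [HasShift D ℤ]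
  [∀ n : ℤ, (shiftFunctor D n).Additive] [Pretriangulated D] [IsTriangulated D]

/-- The 3 × 3 diagram attached to a commutative square. -/
lemma nine {X Y X' Y' : D} (f : X ⟶ Y) (f' : X' ⟶ Y') (u : X ⟶ X') (v : Y ⟶ Y')
    (comm : f ≫ v = u ≫ f') :
    ∃ (Z Z' X'' Y'' Z'' : D) (g : Y ⟶ Z) (h : Z ⟶ X⟦(1 : ℤ)⟧)
      (g' : Y' ⟶ Z') (h' : Z' ⟶ X'⟦(1 : ℤ)⟧)
      (f'' : X'' ⟶ Y'') (g'' : Y'' ⟶ Z'') (h'' : Z'' ⟶ X''⟦(1 : ℤ)⟧)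
      (u' : X' ⟶ X'') (u'' : X'' ⟶ X⟦(1 : ℤ)⟧)
      (v' : Y' ⟶ Y'') (v'' : Y'' ⟶ Y⟦(1 : ℤ)⟧)
      (w : Z ⟶ Z') (w' : Z' ⟶ Z'') (w'' : Z'' ⟶ Z⟦(1 : ℤ)⟧),
      Triangle.mk f g h ∈ distTriang D ∧ Triangle.mk f' g' h' ∈ distTriang D ∧
      Triangle.mk f'' g'' h'' ∈ distTriang D ∧
      Triangle.mk u u' u'' ∈ distTriang D ∧ Triangle.mk v v' v'' ∈ distTriang D ∧
      Triangle.mk w w' w'' ∈ distTriang D ∧
      g ≫ w = v ≫ g' ∧ h ≫ u⟦(1 : ℤ)⟧' = w ≫ h' ∧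
      f' ≫ v' = u' ≫ f'' ∧ g' ≫ w' = v' ≫ g'' ∧ h' ≫ u'⟦(1 : ℤ)⟧' = w' ≫ h'' ∧
      f'' ≫ v'' = u'' ≫ f⟦(1 : ℤ)⟧' ∧ g'' ≫ w'' = v'' ≫ g⟦(1 : ℤ)⟧' ∧
      h'' ≫ u''⟦(1 : ℤ)⟧' = -(w'' ≫ h⟦(1 : ℤ)⟧') := by
  obtain ⟨Z, g, h, hf⟩ := distinguished_cocone_triangle f
  obtain ⟨Z', g', h', hf'⟩ := distinguished_cocone_triangle f'
  obtain ⟨X'', u', u'', hu⟩ := distinguished_cocone_triangle u
  obtain ⟨Y'', v', v'', hv⟩ := distinguished_cocone_triangle v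
  obtain ⟨Q, q, q'', hd⟩ := distinguished_cocone_triangle (f ≫ v)
  let oA := Triangulated.someOctahedron rfl hf hv hd
  let oB := Triangulated.someOctahedron comm.symm hu hf' hd
  obtain ⟨Z'', g'', h'', hf''⟩ := distinguished_cocone_triangle (oB.m₁ ≫ oA.m₃)
  have hb : Triangle.mk oA.m₃ (v'' ≫ g⟦(1 : ℤ)⟧') (-oA.m₁⟦(1 : ℤ)⟧') ∈ distTriang D :=
    rot_of_distTriang _ oA.mem
  let oC := Triangulated.someOctahedron rfl oB.mem hb hf''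
  refine ⟨Z, Z', X'', Y'', Z'', g, h, g', h', oB.m₁ ≫ oA.m₃, g'', h'', u', u'', v', v'',
    oA.m₁ ≫ oB.m₃, oC.m₁, oC.m₃, hf, hf', hf'', hu, hv, ?_, ?_, ?_, ?_, ?_, ?_, ?_, ?_, ?_⟩
  · rw [rotate_distinguished_triangle]
    exact isomorphic_distinguished _ oC.mem _
      (Triangle.isoMk _ _ (Iso.refl _) (Iso.refl _) (Iso.refl _)
        (by simp) (by simp) (by simp))
  · rw [oA.comm₁_assoc, oB.comm₃]
  · rw [assoc, ← oB.comm₄, oA.comm₂_assoc]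
  · rw [oB.comm₁_assoc, oA.comm₃]
  · calc g' ≫ oC.m₁ = q ≫ oB.m₃ ≫ oC.m₁ := (oB.comm₃_assoc _).symm
      _ = q ≫ oA.m₃ ≫ g'' := by rw [oC.comm₁]
      _ = v' ≫ g'' := oA.comm₃_assoc _
  · exact oC.comm₂.symm
  · rw [assoc, ← oA.comm₄, oB.comm₂_assoc]
  · exact oC.comm₃
  · have h4 : h'' ≫ oB.m₁⟦(1 : ℤ)⟧' = oC.m₃ ≫ (-oA.m₁⟦(1 : ℤ)⟧') := oC.comm₄
    calc h'' ≫ u''⟦(1 : ℤ)⟧' = h'' ≫ oB.m₁⟦(1 : ℤ)⟧' ≫ q''⟦(1 : ℤ)⟧' := by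
          rw [← Functor.map_comp, oB.comm₂]
      _ = _ := by rw [reassoc_of% h4, Preadditive.neg_comp, ← Functor.map_comp, oA.comm₂,
          Preadditive.comp_neg]

/-- If `Hom(P, Q) = 0`, the extensions of objects in `Q` by objects in `P` form a triangulated
subcategory. -/
lemma extensionProduct_isTriangulated (P Q : ObjectProperty D) [P.IsTriangulated]
    [Q.IsTriangulated] (horth : ∀ ⦃A B : D⦄, P A → Q B → ∀ f : A ⟶ B, f = 0) :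
    (ObjectProperty.extensionProduct P Q).IsTriangulated := by
  refine { exists_zero := ?_, ext₂' := ?_ }
  · obtain ⟨Z, hZ, hP⟩ := P.exists_prop_of_containsZero
    exact ⟨Z, hZ, ObjectProperty.le_extensionProduct_left Q Z hP⟩
  rintro T hT ⟨A₁, B₁, f₁, g₁, h₁, hT₁, hA₁, hB₁⟩ ⟨A₃, B₃, f₃, g₃, h₃, hT₃, hA₃, hB₃⟩
  refine ObjectProperty.le_isoClosure _ _ ?_
  have hT₁' := rot_of_distTriang _ (rot_of_distTriang _ (rot_of_distTriang _ hT₁))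
  obtain ⟨a, ha⟩ := Triangle.coyoneda_exact₁ _ (rot_of_distTriang _ hT₁) (f₃ ≫ T.mor₃)
    (horth hA₃ (Q.le_shift (1 : ℤ) _ hB₁) _)
  obtain ⟨Z, Z', X'', Y'', Z'', g, h, g', h', f'', g'', h'', u', u'', v', v'', w, w', w'', hf,
    hf', hf'', hu, hv, hw, -⟩ := nine f₃ (-f₁⟦(1 : ℤ)⟧') a T.mor₃ (by simpa using ha)
  have hX'' : P.isoClosure X'' :=
    P.ext_of_isTriangulatedClosed₃' _ hu hA₃ (P.le_shift (1 : ℤ) _ hA₁)
  have eZ : Z ≅ B₃ := Triangle.π₃.mapIso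
    (isoTriangleOfIso₁₂ _ _ hf hT₃ (Iso.refl _) (Iso.refl _) (by simp))
  have eZ' : Z' ≅ B₁⟦(1 : ℤ)⟧ := Triangle.π₃.mapIso
    (isoTriangleOfIso₁₂ _ _ hf' hT₁' (Iso.refl _) (Iso.refl _) (by simp))
  have eY : Y'' ≅ T.obj₂⟦(1 : ℤ)⟧ := Triangle.π₃.mapIso
    (isoTriangleOfIso₁₂ _ _ hv (rot_of_distTriang _ (rot_of_distTriang _ hT))
      (Iso.refl _) (Iso.refl _) (by simp))
  have hZ'' : Q.isoClosure Z'' := Q.isoClosure.ext_of_isTriangulatedClosed₃ _ hw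
    ⟨_, hB₃, ⟨eZ⟩⟩ ⟨_, Q.le_shift (1 : ℤ) _ hB₁, ⟨eZ'⟩⟩
  have hY : (ObjectProperty.extensionProduct P Q) (T.obj₂⟦(1 : ℤ)⟧) := by
    rw [← ObjectProperty.extensionProduct_isoClosure_left,
      ← ObjectProperty.extensionProduct_isoClosure_right]
    exact ObjectProperty.prop_of_iso _ eY ⟨_, _, _, _, _, hf'', hX'', hZ''⟩
  exact ObjectProperty.prop_of_iso _ ((shiftFunctorCompIsoId D (1 : ℤ) (-1) (by simp)).app _)
    (ObjectProperty.le_shift _ (-1 : ℤ) _ hY)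

end Groth.Agent.Triang
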