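import Mathlib.CategoryTheory.Triangulated.Pretriangulated

set_option autoImplicit false

namespace Groth.Agent.Triang

open CategoryTheory Limits Category Pretriangulated

universe v u

variable {C : Type u} [Category.{v} C] [Preadditive C] [HasZeroObject C] [HasShift C ℤ]
  [∀ n : ℤ, (shiftFunctor C n).Additive] [Pretriangulated C]

/-- A triangle receiving a map from a distinguished triangle which is an iso on the first two
terms, and which is exact for all functors `Hom(A, -)`, is distinguished. -/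
lemma distinguished_of_coyoneda_exact (T T' : Triangle C) (hT' : T' ∈ distTriang C) (φ : T' ⟶ T)
    [IsIso φ.hom₁] [IsIso φ.hom₂]
    (h₂ : ∀ (A : C) (g : A ⟶ T.obj₂), g ≫ T.mor₂ = 0 → ∃ a, g = a ≫ T.mor₁)
    (h₃ : ∀ (A : C) (g : A ⟶ T.obj₃), g ≫ T.mor₃ = 0 → ∃ a, g = a ≫ T.mor₂)
    (h₁ : T.mor₃ ≫ T.mor₁⟦(1 : ℤ)⟧' = 0) : T ∈ distTriang C := by
  suffices IsIso φ.hom₃ by
    have : IsIso φ := by
      apply Triangle.isIso_of_isIsos
      all_goals infer_instance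
    exact isomorphic_distinguished _ hT' _ (asIso φ).symm
  refine isIso_of_yoneda_map_bijective _ (fun A => ⟨?_, ?_⟩)
  · suffices Mono φ.hom₃ by
      intro a₁ a₂ ha
      simpa only [← cancel_mono φ.hom₃] using ha
    rw [Preadditive.mono_iff_cancel_zero]
    intro A f hf
    have hf' : f ≫ T'.mor₃ = 0 := by
      rw [← cancel_mono (φ.hom₁⟦(1 : ℤ)⟧'), zero_comp, assoc, φ.comm₃, reassoc_of% hf, zero_comp]
    obtain ⟨g, hg⟩ := T'.coyoneda_exact₃ hT' f hf'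
    obtain ⟨a, ha⟩ := h₂ A (g ≫ φ.hom₂) (by rw [assoc, ← φ.comm₂, ← reassoc_of% hg, hf])
    have : g = (a ≫ inv φ.hom₁) ≫ T'.mor₁ := by
      rw [← cancel_mono φ.hom₂, ha, assoc, assoc, φ.comm₁, IsIso.inv_hom_id_assoc]
    rw [hg, this, assoc, comp_distTriang_mor_zero₁₂ _ hT', comp_zero]
  · intro a
    obtain ⟨a', ha'⟩ := T'.coyoneda_exact₁ hT' (a ≫ T.mor₃ ≫ (inv φ.hom₁)⟦(1 : ℤ)⟧') (by
      have : inv φ.hom₁ ≫ T'.mor₁ = T.mor₁ ≫ inv φ.hom₂ := by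
        rw [IsIso.inv_comp_eq, ← assoc, IsIso.eq_comp_inv, φ.comm₁]
      rw [assoc, assoc, ← Functor.map_comp, this, Functor.map_comp, reassoc_of% h₁, zero_comp,
        comp_zero])
    have ha'' : a' ≫ φ.hom₃ ≫ T.mor₃ = a ≫ T.mor₃ := by
      rw [← φ.comm₃, ← reassoc_of% ha', ← Functor.map_comp, IsIso.inv_hom_id, CategoryTheory.Functor.map_id,
        comp_id]
    obtain ⟨b, hb⟩ := h₃ A (a - a' ≫ φ.hom₃) (by rw [Preadditive.sub_comp, assoc, ha'', sub_self])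
    refine ⟨a' + (b ≫ inv φ.hom₂) ≫ T'.mor₂, ?_⟩
    simp only [Preadditive.add_comp, assoc, φ.comm₂, IsIso.inv_hom_id_assoc, ← hb,
      add_sub_cancel]

/-- A retract of a distinguished triangle is distinguished. -/
lemma distinguished_of_retract (T T' : Triangle C) (hT' : T' ∈ distTriang C) (s : T ⟶ T')
    (p : T' ⟶ T) (h1 : s.hom₁ ≫ p.hom₁ = 𝟙 _) (h2 : s.hom₂ ≫ p.hom₂ = 𝟙 _)
    (h3 : s.hom₃ ≫ p.hom₃ = 𝟙 _) : T ∈ distTriang C := by
  obtain ⟨Z, f₂, f₃, hT''⟩ := distinguished_cocone_triangle T.mor₁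
  let φ : Triangle.mk T.mor₁ f₂ f₃ ⟶ T' :=
    completeDistinguishedTriangleMorphism _ _ hT'' hT' s.hom₁ s.hom₂ s.comm₁
  have : IsIso (φ ≫ p).hom₁ := by
    show IsIso (s.hom₁ ≫ p.hom₁)
    rw [h1]
    exact IsIso.id _
  have : IsIso (φ ≫ p).hom₂ := by
    show IsIso (s.hom₂ ≫ p.hom₂)
    rw [h2]
    exact IsIso.id _
  refine distinguished_of_coyoneda_exact T _ hT'' (φ ≫ p) ?_ ?_ ?_
  · intro A g hg
    obtain ⟨a, ha⟩ := T'.coyoneda_exact₂ hT' (g ≫ s.hom₂) (by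
      rw [assoc, ← s.comm₂, reassoc_of% hg, zero_comp])
    exact ⟨a ≫ p.hom₁, by rw [assoc, ← p.comm₁, ← reassoc_of% ha, h2, comp_id]⟩
  · intro A g hg
    obtain ⟨a, ha⟩ := T'.coyoneda_exact₃ hT' (g ≫ s.hom₃) (by
      rw [assoc, ← s.comm₃, reassoc_of% hg, zero_comp])
    exact ⟨a ≫ p.hom₂, by rw [assoc, ← p.comm₂, ← reassoc_of% ha, h3, comp_id]⟩
  · have : T.mor₃ ≫ T.mor₁⟦(1 : ℤ)⟧' ≫ s.hom₂⟦(1 : ℤ)⟧' = 0 := by
      rw [← Functor.map_comp, s.comm₁, Functor.map_comp, s.comm₃_assoc,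
        comp_distTriang_mor_zero₃₁ _ hT', comp_zero]
    have := this =≫ p.hom₂⟦(1 : ℤ)⟧'
    simpa only [assoc, ← Functor.map_comp, h2, CategoryTheory.Functor.map_id, comp_id, zero_comp] using this

/-- Dual of `distinguished_of_coyoneda_exact`. -/
lemma distinguished_of_yoneda_exact (T T' : Triangle C) (hT' : T' ∈ distTriang C) (φ : T ⟶ T')
    [IsIso φ.hom₁] [IsIso φ.hom₂] (h₁₂ : T.mor₁ ≫ T.mor₂ = 0)
    (h₃ : ∀ (A : C) (g : T.obj₃ ⟶ A), T.mor₂ ≫ g = 0 → ∃ a, g = T.mor₃ ≫ a)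
    (h₁ : ∀ (A : C) (g : T.obj₁⟦(1 : ℤ)⟧ ⟶ A), T.mor₃ ≫ g = 0 →
      ∃ a, g = T.mor₁⟦(1 : ℤ)⟧' ≫ a) :
    T ∈ distTriang C := by
  suffices IsIso φ.hom₃ by
    have : IsIso φ := by
      apply Triangle.isIso_of_isIsos
      all_goals infer_instance
    exact isomorphic_distinguished _ hT' _ (asIso φ)
  refine isIso_of_coyoneda_map_bijective _ (fun A => ⟨?_, ?_⟩)
  · suffices Epi φ.hom₃ by
      intro a₁ a₂ ha
      simpa only [← cancel_epi φ.hom₃] using ha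
    rw [Preadditive.epi_iff_cancel_zero]
    intro A f hf
    obtain ⟨g, hg⟩ := T'.yoneda_exact₃ hT' f (by
      rw [← cancel_epi φ.hom₂, comp_zero, ← φ.comm₂_assoc, hf, comp_zero])
    obtain ⟨a, ha⟩ := h₁ A (φ.hom₁⟦(1 : ℤ)⟧' ≫ g) (by rw [φ.comm₃_assoc, ← hg, hf])
    have h : g = T'.mor₁⟦(1 : ℤ)⟧' ≫ (inv φ.hom₂)⟦(1 : ℤ)⟧' ≫ a := by
      rw [← cancel_epi (φ.hom₁⟦(1 : ℤ)⟧'), ha, ← Functor.map_comp_assoc, ← Functor.map_comp_assoc,
        ← φ.comm₁, assoc, IsIso.hom_inv_id, comp_id]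
    rw [hg, h, ← assoc, comp_distTriang_mor_zero₃₁ _ hT', zero_comp]
  · intro a
    obtain ⟨a', ha'⟩ := T'.yoneda_exact₂ hT' (inv φ.hom₂ ≫ T.mor₂ ≫ a) (by
      have : T'.mor₁ ≫ inv φ.hom₂ = inv φ.hom₁ ≫ T.mor₁ := by
        rw [IsIso.comp_inv_eq, assoc, IsIso.eq_inv_comp, φ.comm₁]
      rw [reassoc_of% this, reassoc_of% h₁₂, zero_comp, comp_zero])
    obtain ⟨b, hb⟩ := h₃ A (a - φ.hom₃ ≫ a') (by
      rw [Preadditive.comp_sub, φ.comm₂_assoc, ← ha', IsIso.hom_inv_id_assoc, sub_self])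
    refine ⟨a' + T'.mor₃ ≫ (inv φ.hom₁)⟦(1 : ℤ)⟧' ≫ b, ?_⟩
    simp only [Preadditive.comp_add]
    rw [← φ.comm₃_assoc, ← Functor.map_comp_assoc, IsIso.hom_inv_id]
    simp only [CategoryTheory.Functor.map_id, id_comp]
    rw [← hb, add_sub_cancel]

end Groth.Agent.Triang
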