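import Mathlib.CategoryTheory.Triangulated.Pretriangulated
import Mathlib.CategoryTheory.Idempotents.Basic
import Mathlib.CategoryTheory.Preadditive.Opposite
import Mathlib.CategoryTheory.Limits.Shapes.Opposites.Products
import Mathlib.CategoryTheory.Limits.Shapes.Opposites.Kernels

set_option autoImplicit false

namespace Groth.Agent.Triang

open CategoryTheory Limits Category Preadditive

universe v u

variable {D : Type u} [Category.{v} D] [Preadditive D]

/-- Countable coproducts and cokernels of split monomorphisms give idempotent completeness. -/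
lemma isIdempotentComplete_of_coproducts [HasColimitsOfShape (Discrete ℕ) D]
    (hk : ∀ ⦃X Y : D⦄ (f : X ⟶ Y), IsSplitMono f → HasCokernel f) : IsIdempotentComplete D := by
  refine ⟨fun X e he => ?_⟩
  let c : ℕ → D := fun _ => X
  let f : ∐ c ⟶ ∐ c := Sigma.desc fun n => (𝟙 X - e) ≫ Sigma.ι c n + e ≫ Sigma.ι c (n + 1)
  let r : ∐ c ⟶ ∐ c := Sigma.desc fun n => (𝟙 X - e) ≫ Sigma.ι c n + e ≫ Sigma.ι c (n - 1)
  have hf : f ≫ r = 𝟙 _ := by
    ext n
    simp [f, r, reassoc_of% he, sub_comp, comp_sub]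
  have := hk f ⟨⟨⟨r, hf⟩⟩⟩
  have key : ∀ n, (e ≫ Sigma.ι c (n + 1)) ≫ cokernel.π f = 0 ∧
      ((𝟙 X - e) ≫ Sigma.ι c n) ≫ cokernel.π f = 0 := by
    intro n
    have h : ((𝟙 X - e) ≫ Sigma.ι c n + e ≫ Sigma.ι c (n + 1)) ≫ cokernel.π f = 0 := by
      simpa [f] using Sigma.ι c n ≫= cokernel.condition f
    have h1 := e ≫= h
    have h2 := (𝟙 X - e) ≫= h
    simp [sub_comp, comp_sub, reassoc_of% he] at h1 h2
    constructor <;> simp_all [sub_comp]
  let s : cokernel f ⟶ X := cokernel.desc f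
    (Sigma.desc fun n => if n = 0 then e else 0) (by
      ext n
      rcases n with _ | n <;> simp [f, sub_comp, he])
  refine ⟨cokernel f, s, Sigma.ι c 0 ≫ cokernel.π f, ?_, by simp [s]⟩
  rw [← cancel_epi (cokernel.π f)]
  ext n
  rcases n with _ | n
  · have := (key 0).2
    simp [s, sub_comp, sub_eq_zero] at this ⊢
    exact this.symm
  · have h1 := (key n).1
    have h2 := (key (n + 1)).2
    simp [s, sub_comp, sub_eq_zero] at h1 h2 ⊢
    rw [h2]
    exact h1.symm

/-- Countable products and kernels of split epimorphisms give idempotent completeness. -/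
lemma isIdempotentComplete_of_products [HasLimitsOfShape (Discrete ℕ) D]
    (hk : ∀ ⦃X Y : D⦄ (f : X ⟶ Y), IsSplitEpi f → HasKernel f) : IsIdempotentComplete D := by
  have : HasColimitsOfShape (Discrete ℕ) Dᵒᵖ := inferInstance
  have := isIdempotentComplete_of_coproducts (D := Dᵒᵖ) (fun X Y f hf => by
    have := hk f.unop ⟨⟨⟨(retraction f).unop, congrArg Quiver.Hom.unop (IsSplitMono.id f)⟩⟩⟩
    exact ⟨⟨⟨CokernelCofork.ofπ (kernel.ι f.unop).op
      (show f ≫ (kernel.ι f.unop).op = 0 from congrArg Quiver.Hom.op (kernel.condition f.unop)),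
      KernelFork.IsLimit.ofιOp _ (kernel.condition f.unop) (kernelIsKernel f.unop)⟩⟩⟩)
  exact Idempotents.isIdempotentComplete_iff_opposite.1 this

variable [HasZeroObject D] [HasShift D ℤ] [∀ n : ℤ, (shiftFunctor D n).Additive] [Pretriangulated D]

open Pretriangulated in
lemma hasCokernel_of_mono {X Y : D} (f : X ⟶ Y) [Mono f] : HasCokernel f := by
  obtain ⟨Z, g, h, hT⟩ := distinguished_cocone_triangle f
  have hh : h = 0 := (Triangle.mor₃_eq_zero_iff_mono₁ _ hT).2 ‹_›
  have : Epi g := (Triangle.mor₃_eq_zero_iff_epi₂ _ hT).1 hh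
  exact ⟨⟨⟨CokernelCofork.ofπ g (comp_distTriang_mor_zero₁₂ _ hT),
    Cofork.IsColimit.ofExistsUnique fun s => by
      obtain ⟨l, hl⟩ := Triangle.yoneda_exact₂ _ hT s.π (CokernelCofork.condition s)
      exact ⟨l, hl.symm, fun y hy => (cancel_epi g).1 (hy.trans hl)⟩⟩⟩⟩

open Pretriangulated in
lemma hasKernel_of_epi {X Y : D} (f : X ⟶ Y) [Epi f] : HasKernel f := by
  obtain ⟨Z, g, h, hT⟩ := distinguished_cocone_triangle₁ f
  have hh : h = 0 := (Triangle.mor₃_eq_zero_iff_epi₂ _ hT).2 ‹_›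
  have : Mono g := (Triangle.mor₃_eq_zero_iff_mono₁ _ hT).1 hh
  exact ⟨⟨⟨KernelFork.ofι g (comp_distTriang_mor_zero₁₂ _ hT),
    Fork.IsLimit.ofExistsUnique fun s => by
      obtain ⟨l, hl⟩ := Triangle.coyoneda_exact₂ _ hT s.ι (KernelFork.condition s)
      exact ⟨l, hl.symm, fun y hy => (cancel_mono g).1 (hy.trans hl)⟩⟩⟩⟩

end Groth.Agent.Triang
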