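import Mathlib.CategoryTheory.Triangulated.TStructure.AbelianSubcategory
import Mathlib.CategoryTheory.Triangulated.TStructure.Heart
import Mathlib.CategoryTheory.Triangulated.TStructure.TruncLEGT

/-!
The heart of a t-structure is abelian.
-/

universe v u v' u'

open CategoryTheory Limits Pretriangulated ZeroObject

namespace Groth.Agent.Triang

variable {C : Type u} [Category.{v} C] [Preadditive C] [HasZeroObject C] [HasShift C ℤ]
  [∀ n : ℤ, (shiftFunctor C n).Additive] [Pretriangulated C] (t : Triangulated.TStructure C)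
  {H : Type u'} [Category.{v'} H] [Preadditive H] [t.Heart H]

lemma exists_heart_iso (X : C) [t.IsLE X 0] [t.IsGE X 0] :
    ∃ A : H, Nonempty (t.ιHeart.obj A ≅ X) := by
  have h : t.heart X := ⟨t.le_of_isLE X 0, t.ge_of_isGE X 0⟩
  rw [← t.essImage_ιHeart H] at h
  exact ⟨h.witness, ⟨h.getIso⟩⟩

lemma heart_hom_shift_neg {X Y : H} {n : ℤ} (f : t.ιHeart.obj X ⟶ (t.ιHeart.obj Y)⟦n⟧)
    (hn : n < 0) : f = 0 := by
  haveI : t.IsGE ((t.ιHeart.obj Y)⟦n⟧) (-n) := t.isGE_shift _ 0 n (-n) (by lia)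
  exact t.zero_of_isLE_of_isGE f 0 (-n) (by lia) inferInstance inferInstance

lemma heart_isGE_shift_one (X : H) : t.IsGE ((t.ιHeart.obj X)⟦(1 : ℤ)⟧) (-1) :=
  t.isGE_shift _ 0 1 (-1) (by lia)

lemma heart_isLE_shift_one (X : H) : t.IsLE ((t.ιHeart.obj X)⟦(1 : ℤ)⟧) (-1) :=
  t.isLE_shift _ 0 1 (-1) (by lia)

/-- Finite biproducts exist in the heart. -/
lemma hasFiniteProducts_heart (H : Type u') [Category.{v'} H] [Preadditive H] [t.Heart H] :
    HasFiniteProducts H := by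
  haveI : HasZeroObject H := by
    haveI : t.IsLE (0 : C) 0 := inferInstance
    obtain ⟨A, ⟨e⟩⟩ := exists_heart_iso t (H := H) (0 : C)
    refine ⟨⟨A, ?_⟩⟩
    rw [IsZero.iff_id_eq_zero]
    apply (t.ιHeart (H := H)).map_injective
    rw [CategoryTheory.Functor.map_id, Functor.map_zero]
    exact ((isZero_zero C).of_iso e).eq_of_src _ _
  haveI : HasBinaryBiproducts H := ⟨fun A B ↦ by
    have hT := binaryBiproductTriangle_distinguished (t.ιHeart.obj A) (t.ιHeart.obj B)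
    haveI : t.IsLE (t.ιHeart.obj A ⊞ t.ιHeart.obj B) 0 :=
      t.isLE₂ _ hT 0 (inferInstanceAs (t.IsLE (t.ιHeart.obj A) 0))
        (inferInstanceAs (t.IsLE (t.ιHeart.obj B) 0))
    haveI : t.IsGE (t.ιHeart.obj A ⊞ t.ιHeart.obj B) 0 :=
      t.isGE₂ _ hT 0 (inferInstanceAs (t.IsGE (t.ιHeart.obj A) 0))
        (inferInstanceAs (t.IsGE (t.ιHeart.obj B) 0))
    obtain ⟨P, ⟨e⟩⟩ := exists_heart_iso t (H := H) (t.ιHeart.obj A ⊞ t.ιHeart.obj B)
    let b : BinaryBicone A B :=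
      { pt := P
        fst := t.ιHeart.preimage (e.hom ≫ biprod.fst)
        snd := t.ιHeart.preimage (e.hom ≫ biprod.snd)
        inl := t.ιHeart.preimage (biprod.inl ≫ e.inv)
        inr := t.ιHeart.preimage (biprod.inr ≫ e.inv)
        inl_fst := t.ιHeart.map_injective (by simp)
        inl_snd := t.ιHeart.map_injective (by simp)
        inr_fst := t.ιHeart.map_injective (by simp)
        inr_snd := t.ιHeart.map_injective (by simp) }
    refine HasBinaryBiproduct.mk ⟨b, isBinaryBilimitOfTotal b (t.ιHeart.map_injective ?_)⟩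
    simp only [b, Functor.map_add, Functor.map_comp, Functor.map_preimage,
      CategoryTheory.Functor.map_id]
    rw [← cancel_epi e.inv, ← cancel_mono e.hom]
    simp [biprod.total]⟩
  haveI : HasTerminal H := HasZeroObject.hasTerminal
  exact hasFiniteProducts_of_has_binary_and_terminal

variable [IsTriangulated C]

set_option backward.isDefEq.respectTransparency false in
lemma heart_admissible :
    Triangulated.AbelianSubcategory.admissibleMorphism (t.ιHeart (H := H)) = ⊤ := by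
  ext X₁ X₂ f₁
  simp only [MorphismProperty.top_apply, iff_true]
  intro X₃ f₂ f₃ hT
  -- `X₃` lies in degrees `[-1, 0]`
  haveI hle : t.IsLE X₃ 0 := by
    refine t.isLE₂ _ (rot_of_distTriang _ hT) 0 ?_ ?_
    · exact inferInstanceAs (t.IsLE (t.ιHeart.obj X₂) 0)
    · haveI := heart_isLE_shift_one t X₁
      exact t.isLE_of_le ((t.ιHeart.obj X₁)⟦(1 : ℤ)⟧) (-1) 0
  haveI hge : t.IsGE X₃ (-1) := by
    refine t.isGE₂ _ (rot_of_distTriang _ hT) (-1) ?_ ?_
    · exact t.isGE_of_ge (t.ιHeart.obj X₂) (-1) 0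
    · exact heart_isGE_shift_one t X₁
  have hT' := t.triangleLEGE_distinguished (-1) 0 (by lia) X₃
  -- the two truncations are (shifts of) objects of the heart
  haveI : t.IsGE ((t.truncGE 0).obj X₃) (-1) := inferInstance
  haveI : t.IsGE ((t.truncLE (-1)).obj X₃) (-1) := by
    refine t.isGE₂ _ (inv_rot_of_distTriang _ hT') (-1) ?_ hge
    haveI : t.IsGE (((t.truncGE 0).obj X₃)⟦(-1 : ℤ)⟧) 1 := t.isGE_shift _ 0 (-1) 1 (by lia)
    exact t.isGE_of_ge (((t.truncGE 0).obj X₃)⟦(-1 : ℤ)⟧) (-1) 1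
  haveI : t.IsLE ((t.truncGE 0).obj X₃) 0 := inferInstance
  obtain ⟨Q, ⟨eQ⟩⟩ := exists_heart_iso t (H := H) ((t.truncGE 0).obj X₃)
  let W := ((t.truncLE (-1)).obj X₃)⟦(-1 : ℤ)⟧
  haveI : t.IsLE W 0 := t.isLE_shift _ (-1) (-1) 0 (by lia)
  haveI : t.IsGE W 0 := t.isGE_shift _ (-1) (-1) 0 (by lia)
  obtain ⟨K, ⟨eK⟩⟩ := exists_heart_iso t (H := H) W
  let eK' : (t.ιHeart.obj K)⟦(1 : ℤ)⟧ ≅ (t.truncLE (-1)).obj X₃ :=
    (shiftFunctor C (1 : ℤ)).mapIso eK ≪≫ (shiftEquiv C (1 : ℤ)).counitIso.app _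
  refine ⟨K, Q, eK'.hom ≫ (t.truncLEι (-1)).app X₃, (t.truncGEπ 0).app X₃ ≫ eQ.inv,
    eQ.hom ≫ (t.truncGEδLE (-1) 0 (by lia)).app X₃ ≫ eK'.inv⟦(1 : ℤ)⟧', ?_⟩
  refine isomorphic_distinguished _ hT' _ (Triangle.isoMk _ _ eK' (Iso.refl _) eQ.symm.symm ?_ ?_ ?_)
  · simp [Triangulated.TStructure.triangleLEGE]; rfl
  · simp [Triangulated.TStructure.triangleLEGE]; rfl
  · simp [Triangulated.TStructure.triangleLEGE, ← Functor.map_comp]; rfl

/-- The heart of a t-structure is abelian. -/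
noncomputable def heartAbelian (H : Type u') [Category.{v'} H] [Preadditive H] [t.Heart H] :
    Abelian H :=
  haveI := hasFiniteProducts_heart t H
  Triangulated.AbelianSubcategory.abelian (t.ιHeart (H := H))
    (fun {_ _ _} f hn ↦ heart_hom_shift_neg t f hn) (heart_admissible t)

end Groth.Agent.Triang
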