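import Groth.Agent.Triang.Heart
import Mathlib.CategoryTheory.Triangulated.HomologicalFunctor
import Mathlib.CategoryTheory.Abelian.Refinements

/-!
A lift `H0 : C ⥤ H` of `τ≤0 τ≥0` to the (abelian) heart of a t-structure is homological.
-/

universe v u v' u'

open CategoryTheory Limits Pretriangulated Triangulated

namespace Groth.Agent.Triang

variable {C : Type u} [Category.{v} C] [Preadditive C] [HasZeroObject C] [HasShift C ℤ]
  [∀ n : ℤ, (shiftFunctor C n).Additive] [Pretriangulated C] [IsTriangulated C]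
  (t : TStructure C) {H : Type u'} [Category.{v'} H] [Abelian H] [t.Heart H] (H0 : C ⥤ H)
  (e : H0 ⋙ t.ιHeart ≅ t.truncGE 0 ⋙ t.truncLE 0)

/-- The map from the zeroth cohomology object to the truncation. -/
noncomputable def cohToTrunc : H0 ⋙ t.ιHeart ⟶ t.truncGE 0 :=
  e.hom ≫ Functor.whiskerLeft (t.truncGE 0) (t.truncLEι 0)

lemma cohToTrunc_app (X : C) :
    (cohToTrunc t H0 e).app X = e.hom.app X ≫ (t.truncLEι 0).app ((t.truncGE 0).obj X) := rfl

lemma cohToTrunc_ext (A : H) {X : C} {g₁ g₂ : A ⟶ H0.obj X}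
    (h : t.ιHeart.map g₁ ≫ (cohToTrunc t H0 e).app X =
      t.ιHeart.map g₂ ≫ (cohToTrunc t H0 e).app X) :
    g₁ = g₂ := by
  apply t.ιHeart.map_injective
  rw [← cancel_mono (e.hom.app X)]
  apply t.to_truncLE_obj_ext
  simpa [cohToTrunc_app] using h

lemma isIso_cohToTrunc (X : C) [t.IsLE X 0] : IsIso ((cohToTrunc t H0 e).app X) := by
  rw [cohToTrunc_app]
  haveI : t.IsLE ((t.truncGE 0).obj X) 0 := inferInstance
  haveI : IsIso ((t.truncLEι 0).app ((t.truncGE 0).obj X)) := inferInstance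
  exact IsIso.comp_isIso' inferInstance this

set_option backward.isDefEq.respectTransparency false in
/-- If the cone of `f` is in degrees `≥ 0`, it is also the cone of `τ≥0 f`. -/
lemma exists_triangle_truncGE_of_isGE (T : Triangle C) (hT : T ∈ distTriang C)
    (h₃ : t.IsGE T.obj₃ 0) :
    ∃ (b : (t.truncGE 0).obj T.obj₂ ⟶ T.obj₃) (δ : T.obj₃ ⟶ ((t.truncGE 0).obj T.obj₁)⟦(1 : ℤ)⟧),
      Triangle.mk ((t.truncGE 0).map T.mor₁) b δ ∈ distTriang C := by
  haveI : IsIso ((t.truncLT 0).map T.mor₁) := t.isIso₁_truncLT_map_of_isGE _ hT _ h₃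
  have h₁₂ := t.triangleLTGE_distinguished 0 T.obj₁
  have h₁₃ : Triangle.mk ((t.truncLTι 0).app T.obj₁ ≫ T.mor₁) ((t.truncGEπ 0).app T.obj₂)
      ((t.truncGEδLT 0).app T.obj₂ ≫ (inv ((t.truncLT 0).map T.mor₁))⟦(1 : ℤ)⟧') ∈ distTriang C := by
    refine isomorphic_distinguished _ (t.triangleLTGE_distinguished 0 T.obj₂) _ ?_
    refine Triangle.isoMk _ _ (asIso ((t.truncLT 0).map T.mor₁)) (Iso.refl _) (Iso.refl _) ?_ ?_ ?_
    · simp [TStructure.triangleLTGE]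
      exact ((t.truncLTι 0).naturality T.mor₁).symm
    · simp [TStructure.triangleLTGE]; rfl
    · simp [TStructure.triangleLTGE, ← Functor.map_comp]; rfl
  let O := someOctahedron (u₁₂ := (t.truncLTι 0).app T.obj₁) (u₂₃ := T.mor₁) rfl h₁₂
    (v₂₃ := T.mor₂) (w₂₃ := T.mor₃) hT h₁₃
  have hm : O.m₁ = (t.truncGE 0).map T.mor₁ := by
    apply t.from_truncGE_obj_ext
    exact O.comm₁.trans (t.truncGEπ_naturality 0 T.mor₁).symm
  exact ⟨O.m₃, T.mor₃ ≫ ((t.truncGEπ 0).app T.obj₁)⟦(1 : ℤ)⟧', hm ▸ O.mem⟩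

variable {t H0} in
include e in
lemma additive_coh : H0.Additive := by
  haveI : (H0 ⋙ t.ιHeart).Additive := Functor.additive_of_iso e.symm
  exact Functor.additive_of_comp_faithful H0 (t.ιHeart (H := H))

include e in
lemma mono_map_of_isGE₃ (T : Triangle C) (hT : T ∈ distTriang C) (h₃ : t.IsGE T.obj₃ 0) :
    Mono (H0.map T.mor₁) := by
  haveI := additive_coh e
  obtain ⟨b, δ, hT'⟩ := exists_triangle_truncGE_of_isGE t T hT h₃
  refine Preadditive.mono_of_cancel_zero _ fun {A} g hg ↦ ?_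
  apply cohToTrunc_ext t H0 e
  rw [Functor.map_zero, zero_comp]
  have h0 : (t.ιHeart.map g ≫ (cohToTrunc t H0 e).app T.obj₁) ≫ (t.truncGE 0).map T.mor₁ = 0 := by
    rw [Category.assoc, ← (cohToTrunc t H0 e).naturality T.mor₁]
    simp [← Functor.map_comp_assoc, hg]
  obtain ⟨k, hk⟩ := Triangle.coyoneda_exact₂ _ (inv_rot_of_distTriang _ hT') _ h0
  haveI : t.IsGE (T.obj₃⟦(-1 : ℤ)⟧) 1 := t.isGE_shift _ 0 (-1) 1 (by lia)
  have hk0 : k = 0 := t.zero_of_isLE_of_isGE k 0 1 (by lia) inferInstance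
    (inferInstanceAs (t.IsGE (T.obj₃⟦(-1 : ℤ)⟧) 1))
  rw [hk, hk0]
  exact zero_comp

include e in
lemma isIso_map_of_isGE₃ (T : Triangle C) (hT : T ∈ distTriang C) (h₃ : t.IsGE T.obj₃ 1) :
    IsIso (H0.map T.mor₁) := by
  obtain ⟨b, δ, hT'⟩ := exists_triangle_truncGE_of_isGE t T hT (t.isGE_of_ge _ 0 1)
  haveI : IsIso ((t.truncLE 0).map ((t.truncGE 0).map T.mor₁)) :=
    t.isIso₁_truncLE_map_of_isGE _ hT' 0 1 (by lia) h₃
  haveI : IsIso ((H0 ⋙ t.ιHeart).map T.mor₁) :=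
    (NatIso.isIso_map_iff e T.mor₁).2 (by dsimp; infer_instance)
  haveI : IsIso (t.ιHeart.map (H0.map T.mor₁)) := inferInstanceAs (IsIso ((H0 ⋙ t.ιHeart).map T.mor₁))
  exact isIso_of_reflects_iso (H0.map T.mor₁) (t.ιHeart (H := H))

/-- Any map from an object in degrees `≤ 0` to the heart factors through `H0`. -/
lemma exists_desc_coh {X : C} [t.IsLE X 0] {B : H} (x : X ⟶ t.ιHeart.obj B) :
    ∃ k : H0.obj X ⟶ B, (t.truncGEπ 0).app X ≫
      (@inv _ _ _ _ ((cohToTrunc t H0 e).app X) (isIso_cohToTrunc t H0 e X)) ≫ t.ιHeart.map k = x := by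
  haveI := isIso_cohToTrunc t H0 e X
  exact ⟨t.ιHeart.preimage ((cohToTrunc t H0 e).app X ≫ t.descTruncGE x 0), by simp⟩

include e in
lemma exact_of_isLE (T : Triangle C) (hT : T ∈ distTriang C) [t.IsLE T.obj₁ 0] [t.IsLE T.obj₂ 0]
    [t.IsLE T.obj₃ 0] (w : H0.map T.mor₁ ≫ H0.map T.mor₂ = 0) :
    (ShortComplex.mk _ _ w).Exact := by
  haveI := additive_coh e
  haveI := isIso_cohToTrunc t H0 e T.obj₁
  haveI := isIso_cohToTrunc t H0 e T.obj₂
  haveI := isIso_cohToTrunc t H0 e T.obj₃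
  let θ : ∀ (X : C) [IsIso ((cohToTrunc t H0 e).app X)], X ⟶ t.ιHeart.obj (H0.obj X) :=
    fun X ↦ (t.truncGEπ 0).app X ≫ inv ((cohToTrunc t H0 e).app X)
  have hθ : ∀ {X Y : C} (f : X ⟶ Y) [IsIso ((cohToTrunc t H0 e).app X)]
      [IsIso ((cohToTrunc t H0 e).app Y)], f ≫ θ Y = θ X ≫ t.ιHeart.map (H0.map f) := by
    intro X Y f _ _
    simp only [θ, ← cancel_mono ((cohToTrunc t H0 e).app Y), Category.assoc, IsIso.inv_hom_id,
      Category.comp_id]
    rw [show t.ιHeart.map (H0.map f) ≫ (cohToTrunc t H0 e).app Y =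
      (cohToTrunc t H0 e).app X ≫ (t.truncGE 0).map f from (cohToTrunc t H0 e).naturality f,
      IsIso.inv_hom_id_assoc]
    exact (t.truncGEπ_naturality 0 f).symm
  have hinj : ∀ (X : C) [IsIso ((cohToTrunc t H0 e).app X)] {B : H} (k₁ k₂ : H0.obj X ⟶ B),
      θ X ≫ t.ιHeart.map k₁ = θ X ≫ t.ιHeart.map k₂ → k₁ = k₂ := by
    intro X _ B k₁ k₂ h
    apply t.ιHeart.map_injective
    rw [← cancel_epi (inv ((cohToTrunc t H0 e).app X))]
    exact t.from_truncGE_obj_ext (by simpa [θ] using h)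
  haveI hepi : Epi (H0.map T.mor₂) := by
    refine Preadditive.epi_of_cancel_zero _ fun {B} k hk ↦ hinj T.obj₃ _ _ ?_
    rw [Functor.map_zero, comp_zero]
    obtain ⟨x, hx⟩ := Triangle.yoneda_exact₂ _ (rot_of_distTriang _ hT)
      (θ T.obj₃ ≫ t.ιHeart.map k) (by
        change T.mor₂ ≫ θ T.obj₃ ≫ t.ιHeart.map k = 0
        rw [reassoc_of% (hθ T.mor₂), ← Functor.map_comp, hk, Functor.map_zero, comp_zero])
    haveI : t.IsLE (T.obj₁⟦(1 : ℤ)⟧) (-1) := t.isLE_shift _ 0 1 (-1) (by lia)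
    have hx0 : x = 0 := t.zero_of_isLE_of_isGE x (-1) 0 (by lia)
      (inferInstanceAs (t.IsLE (T.obj₁⟦(1 : ℤ)⟧) (-1))) inferInstance
    rw [hx0, comp_zero] at hx
    exact hx
  rw [ShortComplex.exact_iff_exact_up_to_refinements]
  -- it suffices that the cokernel of `H0 f` maps monomorphically
  let c := cokernel.π (H0.map T.mor₁)
  obtain ⟨x, hx⟩ := Triangle.yoneda_exact₂ _ hT (θ T.obj₂ ≫ t.ιHeart.map c) (by
    rw [reassoc_of% (hθ T.mor₁), ← Functor.map_comp, cokernel.condition, Functor.map_zero,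
      comp_zero])
  obtain ⟨k, hk⟩ := exists_desc_coh t H0 e x
  have hck : H0.map T.mor₂ ≫ k = c := by
    apply hinj T.obj₂
    rw [hx, Functor.map_comp, ← reassoc_of% (hθ T.mor₂), ← hk]
    simp [θ]
  intro A x₂ hx₂
  dsimp at x₂ hx₂
  exact (ShortComplex.exact_of_g_is_cokernel (ShortComplex.mk _ c (cokernel.condition _))
    (cokernelIsCokernel _)).exact_up_to_refinements x₂ (by
      change x₂ ≫ c = 0
      rw [← hck, reassoc_of% hx₂, zero_comp])

set_option backward.isDefEq.respectTransparency false in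
include e in
lemma exact_of_isLE₁ (T : Triangle C) (hT : T ∈ distTriang C) [t.IsLE T.obj₁ 0]
    (w : H0.map T.mor₁ ≫ H0.map T.mor₂ = 0) :
    (ShortComplex.mk _ _ w).Exact := by
  haveI := additive_coh e
  let Y' := (t.truncLE 0).obj T.obj₂
  let f' : T.obj₁ ⟶ Y' := t.liftTruncLE T.mor₁ 0
  obtain ⟨V, g', h', hT'⟩ := distinguished_cocone_triangle f'
  haveI : t.IsLE V 0 := by
    refine t.isLE₂ _ (rot_of_distTriang _ hT') 0 (inferInstanceAs (t.IsLE Y' 0)) ?_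
    haveI : t.IsLE (T.obj₁⟦(1 : ℤ)⟧) (-1) := t.isLE_shift _ 0 1 (-1) (by lia)
    exact t.isLE_of_le (T.obj₁⟦(1 : ℤ)⟧) (-1) 0
  have hY := t.triangleLEGE_distinguished 0 1 (by lia) T.obj₂
  let O := someOctahedron (u₁₂ := f') (u₂₃ := (t.truncLEι 0).app T.obj₂) (u₁₃ := T.mor₁)
    (t.liftTruncLE_ι T.mor₁ 0) hT' hY (v₁₃ := T.mor₂) (w₁₃ := T.mor₃) hT
  haveI hi : IsIso (H0.map ((t.truncLEι 0).app T.obj₂)) :=
    isIso_map_of_isGE₃ t H0 e ((t.triangleLEGE 0 1 (by lia)).obj T.obj₂) hY (inferInstance : t.IsGE ((t.truncGE 1).obj T.obj₂) 1)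
  haveI hm : IsIso (H0.map O.m₁) :=
    isIso_map_of_isGE₃ t H0 e _ O.mem (inferInstanceAs (t.IsGE ((t.truncGE 1).obj T.obj₂) 1))
  haveI : t.IsLE (Triangle.mk f' g' h').obj₂ 0 := inferInstanceAs (t.IsLE Y' 0)
  haveI : t.IsLE (Triangle.mk f' g' h').obj₁ 0 := inferInstanceAs (t.IsLE T.obj₁ 0)
  haveI : t.IsLE (Triangle.mk f' g' h').obj₃ 0 := inferInstanceAs (t.IsLE V 0)
  have w' : H0.map f' ≫ H0.map g' = 0 := by
    rw [← Functor.map_comp, show f' ≫ g' = 0 from comp_distTriang_mor_zero₁₂ _ hT',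
      Functor.map_zero]
  refine (ShortComplex.exact_iff_of_iso ?_).1 (exact_of_isLE t H0 e _ hT' w')
  exact ShortComplex.isoMk (Iso.refl _) (asIso (H0.map ((t.truncLEι 0).app T.obj₂)))
    (asIso (H0.map O.m₁))
    (by simp [f', ← Functor.map_comp]) (by simp [← Functor.map_comp, O.comm₁])

set_option backward.isDefEq.respectTransparency false in
include e in
lemma isHomological_coh : H0.IsHomological := by
  haveI := additive_coh e
  refine { exact := fun T hT ↦ ?_ }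
  have hX := t.triangleLEGE_distinguished 0 1 (by lia) T.obj₁
  let i := (t.truncLEι 0).app T.obj₁
  obtain ⟨U, v, w, hU⟩ := distinguished_cocone_triangle (i ≫ T.mor₁)
  let O := someOctahedron (u₁₂ := i) (u₂₃ := T.mor₁) rfl hX
    (v₂₃ := T.mor₂) (w₂₃ := T.mor₃) hT hU
  haveI : Mono (H0.map O.m₃) := by
    refine mono_map_of_isGE₃ t H0 e _ (rot_of_distTriang _ O.mem) ?_
    haveI : t.IsGE (((t.truncGE 1).obj T.obj₁)⟦(1 : ℤ)⟧) 0 := t.isGE_shift _ 1 1 0 (by lia)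
    exact inferInstanceAs (t.IsGE (((t.truncGE 1).obj T.obj₁)⟦(1 : ℤ)⟧) 0)
  haveI : t.IsLE (Triangle.mk (i ≫ T.mor₁) v w).obj₁ 0 :=
    inferInstanceAs (t.IsLE ((t.truncLE 0).obj T.obj₁) 0)
  have w' : H0.map (i ≫ T.mor₁) ≫ H0.map v = 0 := by
    rw [← Functor.map_comp, show (i ≫ T.mor₁) ≫ v = 0 from comp_distTriang_mor_zero₁₂ _ hU,
      Functor.map_zero]
  have hex := exact_of_isLE₁ t H0 e _ hU w'
  rw [ShortComplex.exact_iff_exact_up_to_refinements]
  intro A x₂ hx₂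
  replace hx₂ : x₂ ≫ H0.map T.mor₂ = 0 := hx₂
  obtain ⟨A', π, hπ, x₁, hx₁⟩ := hex.exact_up_to_refinements x₂ (by
    change x₂ ≫ H0.map v = 0
    rw [← cancel_mono (H0.map O.m₃), Category.assoc, ← Functor.map_comp, O.comm₃, hx₂, zero_comp])
  refine ⟨A', π, hπ, x₁ ≫ H0.map i, ?_⟩
  refine hx₁.trans ?_
  change x₁ ≫ H0.map (i ≫ T.mor₁) = (x₁ ≫ H0.map i) ≫ H0.map T.mor₁
  rw [Functor.map_comp, Category.assoc]

end Groth.Agent.Triang
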